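import Cfsg.Agent.Chev.InstSmall
import Cfsg.Agent.Chev.Twisted.OrbitGroup
import Cfsg.Agent.Chev.Twisted.Poincare
import Cfsg.Agent.Chev.Twisted.Coxeter
import Cfsg.Prelude.Def_LieTwisted

/-!
# The group ³D₄(q)
-/

set_option autoImplicit false
set_option maxRecDepth 100000
set_option linter.style.longLine false

namespace CfsgLib.Chev.Twisted.D4

open Cfsg.Lie Matrix CfsgLib.Chev

universe u

/-- The triality on the roots. -/
def rhoL : List ℕ := [0, 1, 6, 2, 7, 10, 3, 8, 4, 9, 11, 5, 18, 12, 14, 19, 15, 20, 13, 16, 21, 17, 22, 23]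

/-- The signs of the triality. -/
def epsL : List ℤ := [1, 1, -1, 1, -1, 1, -1, 1, -1, 1, 1, 1, 1, 1, 1, -1, 1, -1, 1, -1, 1, -1, 1, 1]

/-- The triality of D₄. -/
def graph : Graph chevD4 where
  tau i := [2, 1, 3, 0].getD i 0
  rho r := rhoL.getD r 0
  eps r := epsL.getD r 0
  tau_lt := by decide +kernel
  tau_inj := by decide +kernel
  rho_lt := by decide +kernel
  rho_inj := by decide +kernel
  rho_pos := by decide +kernel
  rho_neg := by decide +kernel
  rho_simple := by decide +kernel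
  eps_unit := by decide +kernel
  eps_neg := by decide +kernel
  eps_simple := by decide +kernel
  cartan_tau := by decide +kernel
  cor_tau := by decide +kernel
  chain_rho := by decide +kernel

/-- The members of the orbits. -/
def memL : List (List ℕ) := [[1], [0, 2, 3]]

/-- The orbits. -/
def orbits : Orbits sysD4.{u} graph 2 where
  ob i := if i = 1 then 0 else 1
  size j := [1, 3].getD j 0
  mem j i := (memL.getD j []).getD i 0
  size_pos := by decide +kernel
  mem_lt := by decide +kernel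
  mem_ob := by decide +kernel
  mem_inj := by decide +kernel
  ob_mem := by decide +kernel
  mem_next := by decide +kernel
  comm_w := by decide +kernel
  sq_w := by decide +kernel
  inv_w := by decide +kernel
  orth := by decide +kernel

/-- The orbit tables for the Poincaré polynomial. -/
def orbs : List (List (List ℤ × ℕ)) := [[([0, 1, 0, 0], 0), ([1, -1, 1, 1], 1)], [([1, 0, 1, 1], 0), ([-1, 3, -1, -1], 3), ([2, -3, 2, 2], 4), ([-2, 3, -2, -2], 7), ([1, -3, 1, 1], 8), ([-1, 0, -1, -1], 11)]]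

/-- The Cartan integers. -/
def cart : List (List ℤ) := [[2, -1, 0, 0], [-1, 2, -1, -1], [0, -1, 2, 0], [0, -1, 0, 2]]

theorem cartanOK : CartanOK chevD4 cart := by
  unfold CartanOK; decide +kernel

theorem orbs_ok : ∀ k < 2,
    torbOK chevD4.rank cart [1, 0, 1, 1] [[1], [0, 2, 3]] [1, 3] k (orbs.getD k []) = true := by
  decide +kernel

theorem tables : (orbits.{u}).toW.TablesOK [1, 0, 1, 1] [[1], [0, 2, 3]] [1, 3] :=
  ⟨by decide +kernel, fun j => by fin_cases j <;> exact ⟨rfl, rfl⟩⟩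

theorem poincare (x : ℤ) : ∑ w ∈ (orbits.{u}).toW.goodSet, x ^ (orbits.{u}).toW.tlen w =
    (1 + x) * (1 + x ^ 3 + x ^ 4 + x ^ 7 + x ^ 8 + x ^ 11) := by
  rw [(orbits.{u}).toW.poincare cartanOK tables orbs_ok x]
  simp only [orbs, List.range_succ, List.range_zero, List.nil_append, List.cons_append,
    List.map_cons, List.map_nil, List.getD_cons_zero, List.getD_cons_succ, List.sum_cons,
    List.sum_nil, List.prod_cons, List.prod_nil]
  ring

section

variable {K : Type u} [Field K] [Fintype K] {q : ℕ}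

/-- The endomorphism `t ↦ t^q`. -/
noncomputable def phi (hq : IsPrimePow q) (hK : Fintype.card K = q ^ 3) : K →+* K :=
  (exists_frob hq hK).choose

variable (hq : IsPrimePow q) (hK : Fintype.card K = q ^ 3)

theorem phi_apply (t : K) : phi hq hK t = t ^ q := (exists_frob hq hK).choose_spec t

omit [Field K] in
include hK in
theorem natCard : Nat.card K = q ^ 3 := by rw [Nat.card_eq_fintype_card, hK]

theorem size_dvd (j : Fin 2) : (orbits.{u}).size j ∣ 3 := by
  fin_cases j
  · exact one_dvd 3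
  · exact dvd_refl 3

theorem hcard (j : Fin 2) :
    Nat.card {c : Fin ((orbits.{u}).size j) → K // (orbits.{u}).Tw (phi hq hK) j c} =
      q ^ (orbits.{u}).size j := by
  rw [Orbits.card_tw, card_fix_pow (phi_apply hq hK) hq.pos (natCard hK) (size_dvd j)]

omit [Fintype K] in
theorem xh_zero_eq (f : K → K) (s : Bool) (t : K) :
    (orbits.{u}).xh 0 s (fun i => f^[(i : ℕ)] t) =
      sysD4.wU [(if s then d4p2 else d4m2, t)] := by
  cases s <;> exact (Orbits.xh_prod _ _ _ _).trans rfl

omit [Fintype K] in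
theorem xh_one_eq (f : K → K) (s : Bool) (t : K) :
    (orbits.{u}).xh 1 s (fun i => f^[(i : ℕ)] t) =
      sysD4.wU [(if s then d4p1 else d4m1, t), (if s then d4p3 else d4m3, f t),
        (if s then d4p4 else d4m4, f (f t))] := by
  cases s <;> exact (Orbits.xh_prod _ _ _ _).trans rfl

theorem phi_phi (t : K) : phi hq hK (phi hq hK t) = t ^ (q ^ 2) := by
  rw [phi_apply, phi_apply, ← pow_mul, sq]

theorem twisted_eq : twistedD4 K q = (orbits.{u}).tgroup (phi hq hK) := by
  have h3 : ∀ t : K, t ^ q ^ 3 = t := fun t => by rw [← hK]; exact FiniteField.pow_card t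
  have tw0 : ∀ t : K, t ^ q = t →
      (orbits.{u}).Tw (phi hq hK) 0 (fun i => (phi hq hK)^[(i : ℕ)] t) := fun t ht i =>
    Orbits.tw_of_iterate (show (phi hq hK)^[1] t = t by rw [iterate_frob (phi_apply hq hK), pow_one, ht]) i
  have tw1 : ∀ t : K, (orbits.{u}).Tw (phi hq hK) 1 (fun i => (phi hq hK)^[(i : ℕ)] t) := fun t i =>
    Orbits.tw_of_iterate (show (phi hq hK)^[3] t = t by rw [iterate_frob (phi_apply hq hK), h3]) i
  refine le_antisymm ((Subgroup.closure_le _).2 ?_) ((Subgroup.closure_le _).2 ?_)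
  · rintro g ⟨w, (⟨t, ht, r, hr, rfl⟩ | ⟨t, rs, hrs, rfl⟩), hg⟩
    · rw [show g = sysD4.wU [(r, t)] from Units.ext (hg.trans (sysD4.coe_wU _).symm)]
      obtain ⟨s, rfl⟩ : ∃ s : Bool, r = if s then d4p2 else d4m2 := by
        simp only [List.mem_cons, List.not_mem_nil, or_false] at hr
        rcases hr with rfl | rfl
        · exact ⟨true, rfl⟩
        · exact ⟨false, rfl⟩
      rw [← xh_zero_eq (phi hq hK)]
      exact Orbits.xh_mem _ _ _ _ (tw0 t ht)
    · rw [show g = sysD4.wU [(rs.1, t), (rs.2.1, t ^ q), (rs.2.2, t ^ (q ^ 2))] from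
        Units.ext (hg.trans (sysD4.coe_wU _).symm)]
      obtain ⟨s, rfl⟩ : ∃ s : Bool, rs = (if s then d4p1 else d4m1,
          if s then d4p3 else d4m3, if s then d4p4 else d4m4) := by
        simp only [List.mem_cons, List.not_mem_nil, or_false] at hrs
        rcases hrs with rfl | rfl
        · exact ⟨true, rfl⟩
        · exact ⟨false, rfl⟩
      simp only
      rw [← phi_phi hq hK, ← phi_apply hq hK t, ← xh_one_eq (phi hq hK)]
      exact Orbits.xh_mem _ _ _ _ (tw1 t)
  · rintro g ⟨j, s, c, hc, rfl⟩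
    obtain ⟨c0, hc0, hfix⟩ : ∃ c0, c = (fun i : Fin ((orbits.{u}).size j) => (phi hq hK)^[(i : ℕ)] c0) ∧
        (phi hq hK)^[(orbits.{u}).size j] c0 = c0 :=
      ⟨c ⟨0, (orbits.{u}).size_pos j⟩, funext fun i => (Orbits.iterate_tw c hc _ i).1,
        (Orbits.iterate_tw c hc _ ⟨0, (orbits.{u}).size_pos j⟩).2⟩
    subst hc0
    obtain rfl | rfl : j = 0 ∨ j = 1 := by fin_cases j <;> simp
    · refine Subgroup.subset_closure ⟨[(if s then d4p2 else d4m2, c0)], Or.inl
        ⟨c0, ?_, if s then d4p2 else d4m2, ?_, rfl⟩, ?_⟩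
      · have h : (phi hq hK)^[1] c0 = c0 := hfix
        rwa [iterate_frob (phi_apply hq hK), pow_one] at h
      · cases s <;> simp
      · exact (congrArg Units.val (xh_zero_eq (phi hq hK) s c0)).trans (sysD4.coe_wU _)
    · refine Subgroup.subset_closure ⟨[(if s then d4p1 else d4m1, c0),
        (if s then d4p3 else d4m3, c0 ^ q), (if s then d4p4 else d4m4, c0 ^ (q ^ 2))], Or.inr
        ⟨c0, if s then (d4p1, d4p3, d4p4) else (d4m1, d4m3, d4m4), ?_, ?_⟩, ?_⟩
      · cases s <;> simp
      · cases s <;> rfl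
      · refine (congrArg Units.val (xh_one_eq (phi hq hK) s c0)).trans ((sysD4.coe_wU _).trans ?_)
        rw [phi_phi hq hK, phi_apply hq hK]

/-- The data of ³D₄(q). -/
noncomputable def gdata : GData (orbits.{u}).toW K :=
  (orbits.{u}).toG (phi hq hK) q (hcard hq hK) (twistedD4 K q) (twisted_eq hq hK)

theorem faithful : (gdata hq hK).Faithful :=
  Orbits.faithful _ _ _ _ _ _

include hq hK in
theorem perfect : commutator (twistedD4 K q) = ⊤ := by
  refine (orbits.{u}).perfect (phi hq hK) q (hcard hq hK) _ (twisted_eq hq hK) fun j c hc => ?_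
  fin_cases j
  · refine Orbits.single_mem_commutator _ _ q (hcard hq hK) 0 ⟨0, Nat.one_pos⟩ ?_
      (r := ⟨14, by decide +kernel⟩) (s := ⟨22, by decide +kernel⟩) (v := ⟨23, by decide +kernel⟩)
      (M := (chevD4.commTerms 14 22).headI.2.1) ?_ ?_ ?_ ?_ ?_ ?_ [1, 0] ?_ hc
    · exact fun a => Fin.ext (by have : (a : ℕ) < 1 := a.2; simp only; omega)
    · unfold Sys.Pos; decide +kernel
    · unfold Sys.Pos; decide +kernel
    · unfold Sys.Pos; decide +kernel
    · decide +kernel
    · decide +kernel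
    · decide +kernel
    · decide +kernel
  · have h2 : ∃ t : Kˣ, (t : K) * t ≠ 1 := by
      classical
      by_contra hc'
      push Not at hc'
      have hsub : (Finset.univ : Finset K) ⊆ {0, 1, -1} := fun x _ => by
        by_cases hx : x = 0
        · simp [hx]
        · rcases mul_self_eq_one_iff.1 (hc' (Units.mk0 x hx)) with h | h <;> simp_all
      have h8 : 2 ^ 3 ≤ Fintype.card K := hK ▸ Nat.pow_le_pow_left hq.two_le 3
      have := (Finset.card_le_card hsub).trans Finset.card_le_three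
      rw [Finset.card_univ] at this
      omega
    obtain ⟨t, ht⟩ := h2
    refine Orbits.xh_mem_commutator _ _ 1
      (u := fun i => (Units.map (phi hq hK : K →* K))^[(i : ℕ)] t) ?_ ?_ hc
    · intro i
      refine Orbits.tw_of_iterate ?_ i
      rw [show (orbits.{u}).size 1 = 3 from rfl, iterate_frob_units (phi_apply hq hK)]
      exact Units.ext (by push_cast; rw [← hK, FiniteField.pow_card])
    · intro i
      rw [iterate_frob_units (phi_apply hq hK), Units.val_pow_eq_pow_val,
        ← iterate_frob (phi_apply hq hK), ← iterate_map_mul]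
      intro h
      exact ht ((phi hq hK).injective.iterate _ (h.trans (iterate_map_one _ _).symm))

include hq hK in
/-- `|U¹| = q ^ 12`. -/
theorem card_U1 : Nat.card ↥(chevD4.posUnipotent K ⊓ twistedD4 K q) = q ^ 12 := by
  refine ((congrArg (fun A : Subgroup (GL chevD4.Idx K) => Nat.card A)
    (gdata hq hK).pos_inf_G1).trans (gdata hq hK).card_U1).trans ?_
  rfl

theorem eq_one_of_theta {c : Fin chevD4.rank → Kˣ}
    (hc : c ∈ Orbits.tfix (G := graph) (phi hq hK)) (e : sysD4.theta c = 1) : c = 1 := by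
  have hz : ∀ i < 4, torHom chevD4 c i = 1 := fun i hi =>
    sysD4.dg_inj (z' := (1 : ℕ → Kˣ)) (e.trans (map_one sysD4.dgHom).symm) hi
  obtain ⟨d, hd⟩ : ∃ d : Fin 4 → Kˣ, d = c := ⟨_, rfl⟩
  have hr : ∀ i, i < 4 → ∏ j : Fin 4, d j ^ (cart.getD j []).getD i 0 = 1 := fun i hi => by
    rw [← hz i hi, hd]
    exact Finset.prod_congr rfl fun j _ => congrArg (c j ^ ·) (cartanOK j j.2 i hi).symm
  have e0 := congrArg Units.val (hr 0 (by norm_num))
  have e1 := congrArg Units.val (hr 1 (by norm_num))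
  simp [cart, Fin.prod_univ_four] at e0 e1
  have f : ∀ q' : Fin chevD4.rank, (c (graph.tauP q') : K) = phi hq hK (c q') :=
    fun q' => congrArg Units.val (hc q')
  have f0 : (d 2 : K) = phi hq hK (d 0) := by rw [hd]; exact f (0 : Fin 4)
  have f1 : (d 1 : K) = phi hq hK (d 1) := by rw [hd]; exact f (1 : Fin 4)
  have f2 : (d 3 : K) = phi hq hK (d 2) := by rw [hd]; exact f (2 : Fin 4)
  have f3 : (d 0 : K) = phi hq hK (d 3) := by rw [hd]; exact f (3 : Fin 4)
  have hane : (d 0 : K) ≠ 0 := (d 0).ne_zero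
  have hbne : (d 1 : K) ≠ 0 := (d 1).ne_zero
  have g0 : (d 1 : K) = (d 0 : K) * d 0 := by
    field_simp at e0
    linear_combination -e0
  have hfa : phi hq hK (d 0) = (d 0 : K) := by
    have g1 : phi hq hK (d 0) * phi hq hK (d 0) = (d 0 : K) * d 0 := by
      rw [← map_mul, ← g0]; exact f1.symm
    rcases mul_self_eq_mul_self_iff.1 g1 with h | h
    · exact h
    · have h4 : (d 0 : K) = -(d 0 : K) := by
        conv_lhs => rw [f3, f2, f0, h, map_neg, h, _root_.neg_neg, h]
      rw [h, ← h4]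
  rw [hfa] at f0
  rw [f0, hfa] at f2
  have g5 : (d 0 : K) = 1 := by
    rw [g0, f0, f2] at e1
    field_simp at e1
    linear_combination e1
  rw [g5] at g0 f0 f2
  subst hd
  funext i
  refine Units.ext ?_
  fin_cases i
  · exact g5
  · exact g0.trans (one_mul 1)
  · exact f0
  · exact f2

/-- `|H¹| = (q - 1)² (q² + q + 1)`. -/
theorem card_H1 : Nat.card (gdata hq hK).H1 = (q - 1) ^ 2 * (q ^ 2 + q + 1) := by
  have e : Nat.card (gdata hq hK).H1 = Nat.card (Orbits.tfix (G := graph) (phi hq hK)) :=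
    card_map_of_trivial _ _ fun c hc h => eq_one_of_theta hq hK hc h
  rw [e, (orbits.{u}).card_tfix (phi hq hK), Fin.prod_univ_two]
  simp only [card_fix_units_pow (phi_apply hq hK) hq.pos (natCard hK) (size_dvd _)]
  show (q ^ 1 - 1) * (q ^ 3 - 1) = _
  have h1 := hq.one_lt.le
  have h2 : 1 ≤ q ^ 3 := Nat.one_le_pow _ _ hq.pos
  rw [pow_one]
  zify [h1, h2]
  ring

include hq hK in
/-- `|³D₄(q)|`. -/
theorem card_group : Nat.card (twistedD4 K q) =
    q ^ 12 * (q ^ 2 - 1) * (q ^ 6 - 1) * (q ^ 8 + q ^ 4 + 1) := by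
  refine ((gdata hq hK).card_G1).trans ?_
  rw [(gdata hq hK).card_U1, card_H1]
  show (q - 1) ^ 2 * (q ^ 2 + q + 1) * q ^ (24 / 2 / 1) * ∑ w ∈ (orbits.{u}).toW.goodSet,
    q ^ (orbits.{u}).toW.tlen w = _
  have hp := poincare.{u} (q : ℤ)
  have h1 := hq.one_lt.le
  have h2 : 1 ≤ q ^ 2 := Nat.one_le_pow _ _ hq.pos
  have h6 : 1 ≤ q ^ 6 := Nat.one_le_pow _ _ hq.pos
  zify [h1, h2, h6]
  rw [hp]
  ring

theorem orders (a b : Fin 2) :
    orderOf ((orbits.{u}).toW.wJ a * (orbits.{u}).toW.wJ b) = CoxeterMatrix.G₂ a b := by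
  fin_cases a <;> fin_cases b <;>
    first
      | (show orderOf _ = 1; rw [orderOf_eq_one_iff]; exact (orbits.{u}).toW.wJ_wJ _)
      | (show orderOf _ = 6; rw [orderOf_eq_iff (by norm_num)]; decide +kernel)

theorem irreducible : ∀ J : Finset (Fin 2), J.Nonempty → (∃ k, k ∉ J) →
    ∃ j ∈ J, ∃ k, k ∉ J ∧
      (orbits.{u}).toW.wJ j * (orbits.{u}).toW.wJ k ≠ (orbits.{u}).toW.wJ k * (orbits.{u}).toW.wJ j := by
  decide +kernel

include hq hK in
/-- ³D₄(q) is simple. -/
theorem simple_group :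
    IsSimpleGroup (twistedD4 K q) ∧ ¬ IsMulCommutative (twistedD4 K q) :=
  (gdata hq hK).isSimpleGroup (faithful hq hK) (perfect hq hK) irreducible Nat.two_pos

end

end CfsgLib.Chev.Twisted.D4
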