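import Cfsg.Agent.Chev.InstSmall
import Cfsg.Agent.Chev.ValidE6
import Cfsg.Agent.Chev.Twisted.OrbitGroup
import Cfsg.Agent.Chev.Twisted.Poincare
import Cfsg.Agent.Chev.Twisted.Coxeter
import Cfsg.Prelude.Def_LieTwisted
import Mathlib.GroupTheory.Coxeter.Matrix

/-!
# The group ²E₆(q)
-/

set_option autoImplicit false
set_option maxRecDepth 100000
set_option linter.style.longLine false

namespace CfsgLib.Chev.Twisted

/-- The order of the image times the order of the kernel is the order of the subgroup. -/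
theorem card_map_mul_ker {G H : Type*} [Group G] [Group H] (K₀ : Subgroup G) (f : G →* H) :
    Nat.card (K₀.map f) * Nat.card (f.ker ⊓ K₀ : Subgroup G) = Nat.card K₀ := by
  have e1 : Nat.card (f.ker ⊓ K₀ : Subgroup G) = Nat.card (f.comp K₀.subtype).ker := by
    rw [← MonoidHom.comap_ker, ← Subgroup.subgroupOf, ← Subgroup.inf_subgroupOf_right]
    exact Nat.card_congr (Subgroup.subgroupOfEquivOfLe inf_le_right).symm.toEquiv
  have e2 : Nat.card (K₀.map f) = Nat.card (K₀ ⧸ (f.comp K₀.subtype).ker) := by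
    rw [Nat.card_congr (QuotientGroup.quotientKerEquivRange (f.comp K₀.subtype)).toEquiv,
      MonoidHom.range_comp, Subgroup.range_subtype]
  rw [e1, e2, ← Subgroup.card_eq_card_quotient_mul_card_subgroup]

namespace E6

open Cfsg.Lie Matrix CfsgLib.Chev

universe u

/-- The verified description of the type E₆. -/
noncomputable def sys : Sys.{u} chevE6 := DataE6.valid.toSys

/-- The graph automorphism on the roots. -/
def rhoL : List ℕ := [0, 1, 2, 5, 16, 3, 6, 17, 8, 19, 22, 11, 26, 30, 33, 35, 4, 7, 18, 9, 20, 23, 10, 21, 24, 25, 12, 27, 31, 34, 13, 28, 32, 14, 29, 15, 56, 42, 57, 39, 43, 58, 37, 40, 44, 59, 46, 47, 50, 61, 48, 51, 62, 53, 64, 67, 36, 38, 41, 45, 60, 49, 52, 63, 54, 65, 68, 55, 66, 69, 70, 71]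

/-- The signs of the graph automorphism. -/
def epsL : List ℤ := [1, 1, 1, 1, -1, 1, 1, -1, 1, -1, -1, 1, -1, 1, -1, 1, -1, -1, 1, -1, 1, 1, -1, 1, 1, 1, -1, 1, -1, 1, 1, -1, 1, -1, 1, 1, 1, 1, -1, 1, -1, 1, 1, -1, 1, -1, 1, 1, 1, -1, 1, 1, -1, 1, -1, -1, 1, -1, 1, -1, 1, -1, -1, 1, -1, 1, 1, -1, 1, 1, 1, 1]

/-- The graph automorphism of E₆. -/
def graph : Graph chevE6 where
  tau i := [5, 1, 4, 3, 2, 0].getD i 0
  rho r := rhoL.getD r 0
  eps r := epsL.getD r 0
  tau_lt := by decide +kernel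
  tau_inj := by decide +kernel
  rho_lt := by decide +kernel
  rho_inj := by decide +kernel
  rho_pos := by decide +kernel
  rho_neg := by decide +kernel
  rho_simple := by decide +kernel
  eps_unit := by decide +kernel
  eps_neg := by decide +kernel
  eps_simple := by decide +kernel
  cartan_tau := by decide +kernel
  cor_tau := by decide +kernel
  chain_rho := by decide +kernel

/-- The members of the orbits. -/
def memL : List (List ℕ) := [[1], [3], [2, 4], [0, 5]]

/-- The orbit of a fundamental root. -/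
def obF (i : ℕ) : Fin 4 := [3, 0, 2, 1, 2, 3].getD i 0

/-- The orbits. -/
noncomputable def orbits : Orbits sys.{u} graph 4 where
  ob := obF
  size j := [1, 1, 2, 2].getD j 0
  mem j i := (memL.getD j []).getD i 0
  size_pos := by decide +kernel
  mem_lt := by decide +kernel
  mem_ob := by decide +kernel
  mem_inj := by decide +kernel
  ob_mem := by decide +kernel
  mem_next := by decide +kernel
  comm_w := by decide +kernel
  sq_w := by decide +kernel
  inv_w := by decide +kernel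
  orth := by decide +kernel

/-- The orbit tables for the Poincaré polynomial. -/
def orbs : List (List (List ℤ × ℕ)) := [[([0, 1, 0, 0, 0, 0], 0), ([0, -1, 0, 1, 0, 0], 1)], [([0, 0, 0, 1, 0, 0], 0), ([0, 1, 1, -1, 1, 0], 1), ([0, -1, 1, 0, 1, 0], 2)], [([0, 0, 1, 0, 1, 0], 0), ([1, 0, -1, 2, -1, 1], 2), ([1, 2, 1, -2, 1, 1], 3), ([1, -2, 1, 0, 1, 1], 4), ([2, 2, -1, 0, -1, 2], 5), ([2, -2, -1, 2, -1, 2], 6), ([2, 0, 1, -2, 1, 2], 7), ([3, 0, -1, 0, -1, 3], 9)], [([1, 0, 0, 0, 0, 1], 0), ([-1, 0, 1, 0, 1, -1], 2), ([0, 0, -1, 2, -1, 0], 4), ([0, 2, 1, -2, 1, 0], 5), ([0, -2, 1, 0, 1, 0], 6), ([1, 2, -1, 0, -1, 1], 7), ([1, -2, -1, 2, -1, 1], 8), ([-1, 2, 0, 0, 0, -1], 9), ([1, 0, 1, -2, 1, 1], 9), ([-1, -2, 0, 2, 0, -1], 10), ([-1, 0, 2, -2, 2, -1], 11), ([2, 0, -1, 0, -1, 2], 11), ([-2, 0, 1, 0, 1, -2], 13), ([1, 0, -2, 2, -2, 1], 13), ([1, 2, 0, -2, 0, 1], 14), ([-1, 0, -1, 2, -1, -1], 15), ([1, -2, 0, 0, 0, 1], 15), ([-1, 2, 1, -2,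 1, -1], 16), ([-1, -2, 1, 0, 1, -1], 17), ([0, 2, -1, 0, -1, 0], 18), ([0, -2, -1, 2, -1, 0], 19), ([0, 0, 1, -2, 1, 0], 20), ([1, 0, -1, 0, -1, 1], 22), ([-1, 0, 0, 0, 0, -1], 24)]]

/-- The Cartan integers. -/
def cart : List (List ℤ) := [[2, 0, -1, 0, 0, 0], [0, 2, 0, -1, 0, 0], [-1, 0, 2, -1, 0, 0], [0, -1, -1, 2, -1, 0], [0, 0, 0, -1, 2, -1], [0, 0, 0, 0, -1, 2]]

theorem cartanOK : CartanOK chevE6 cart := by
  unfold CartanOK; decide +kernel

theorem orbs_ok : ∀ k < 4,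
    torbOK chevE6.rank cart [3, 0, 2, 1, 2, 3] memL [1, 1, 2, 2] k (orbs.getD k []) = true := by
  decide +kernel

theorem tables : (orbits.{u}).toW.TablesOK [3, 0, 2, 1, 2, 3] memL [1, 1, 2, 2] :=
  ⟨by decide +kernel, fun j => by fin_cases j <;> exact ⟨rfl, rfl⟩⟩

theorem poincare (x : ℤ) : ∑ w ∈ (orbits.{u}).toW.goodSet, x ^ (orbits.{u}).toW.tlen w =
    (1 + x) *
      (1 + x + x ^ 2) *
      (1 + x ^ 2 + x ^ 3 + x ^ 4 + x ^ 5 + x ^ 6 + x ^ 7 + x ^ 9) *
      (1 + x ^ 2 + x ^ 4 + x ^ 5 + x ^ 6 + x ^ 7 + x ^ 8 + x ^ 9 + x ^ 9 + x ^ 10 + x ^ 11 + x ^ 11 + x ^ 13 + x ^ 13 + x ^ 14 + x ^ 15 + x ^ 15 + x ^ 16 + x ^ 17 + x ^ 18 + x ^ 19 + x ^ 20 + x ^ 22 + x ^ 24) := by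
  rw [(orbits.{u}).toW.poincare cartanOK tables orbs_ok x]
  simp only [orbs, List.range_succ, List.range_zero, List.nil_append, List.cons_append,
    List.map_cons, List.map_nil, List.getD_cons_zero, List.getD_cons_succ, List.sum_cons,
    List.sum_nil, List.prod_cons, List.prod_nil]
  ring

section

variable {K : Type u} [Field K] [Fintype K] {q : ℕ}

/-- The endomorphism `t ↦ t^q`. -/
noncomputable def phi (hq : IsPrimePow q) (hK : Fintype.card K = q ^ 2) : K →+* K :=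
  (exists_frob hq hK).choose

variable (hq : IsPrimePow q) (hK : Fintype.card K = q ^ 2)

theorem phi_apply (t : K) : phi hq hK t = t ^ q := (exists_frob hq hK).choose_spec t

omit [Field K] in
include hK in
theorem natCard : Nat.card K = q ^ 2 := by rw [Nat.card_eq_fintype_card, hK]

theorem size_dvd (j : Fin 4) : (orbits.{u}).size j ∣ 2 := by
  fin_cases j
  · exact one_dvd 2
  · exact one_dvd 2
  · exact dvd_refl 2
  · exact dvd_refl 2

theorem hcard (j : Fin 4) :
    Nat.card {c : Fin ((orbits.{u}).size j) → K // (orbits.{u}).Tw (phi hq hK) j c} =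
      q ^ (orbits.{u}).size j := by
  rw [Orbits.card_tw, card_fix_pow (phi_apply hq hK) hq.pos (natCard hK) (size_dvd j)]

omit [Fintype K] in
theorem xh_zero_eq (f : K → K) (s : Bool) (t : K) :
    (orbits.{u}).xh 0 s (fun i => f^[(i : ℕ)] t) =
      sys.wU [(if s then e6p2 else e6m2, t)] := by
  cases s <;> exact (Orbits.xh_prod _ _ _ _).trans rfl

omit [Fintype K] in
theorem xh_one_eq (f : K → K) (s : Bool) (t : K) :
    (orbits.{u}).xh 1 s (fun i => f^[(i : ℕ)] t) =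
      sys.wU [(if s then e6p4 else e6m4, t)] := by
  cases s <;> exact (Orbits.xh_prod _ _ _ _).trans rfl

omit [Fintype K] in
theorem xh_two_eq (f : K → K) (s : Bool) (t : K) :
    (orbits.{u}).xh 2 s (fun i => f^[(i : ℕ)] t) =
      sys.wU [(if s then e6p3 else e6m3, t), (if s then e6p5 else e6m5, f t)] := by
  cases s <;> exact (Orbits.xh_prod _ _ _ _).trans rfl

omit [Fintype K] in
theorem xh_three_eq (f : K → K) (s : Bool) (t : K) :
    (orbits.{u}).xh 3 s (fun i => f^[(i : ℕ)] t) =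
      sys.wU [(if s then e6p1 else e6m1, t), (if s then e6p6 else e6m6, f t)] := by
  cases s <;> exact (Orbits.xh_prod _ _ _ _).trans rfl

theorem twisted_eq : twistedE6 K q = (orbits.{u}).tgroup (phi hq hK) := by
  have h2 : ∀ t : K, t ^ q ^ 2 = t := fun t => by rw [← hK]; exact FiniteField.pow_card t
  have tw : ∀ (j : Fin 4) (t : K), ((orbits.{u}).size j = 1 → t ^ q = t) →
      (orbits.{u}).Tw (phi hq hK) j (fun i => (phi hq hK)^[(i : ℕ)] t) := fun j t ht i => by
    refine Orbits.tw_of_iterate ?_ i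
    rw [iterate_frob (phi_apply hq hK)]
    fin_cases j
    · exact (pow_one q).symm ▸ ht rfl
    · exact (pow_one q).symm ▸ ht rfl
    · exact h2 t
    · exact h2 t
  refine le_antisymm ((Subgroup.closure_le _).2 ?_) ((Subgroup.closure_le _).2 ?_)
  · rintro g ⟨w, (⟨t, ht, r, hr, rfl⟩ | ⟨t, rs, hrs, rfl⟩), hg⟩
    · rw [show g = sys.wU [(r, t)] from Units.ext (hg.trans (sys.coe_wU _).symm)]
      simp only [List.mem_cons, List.not_mem_nil, or_false] at hr
      rcases hr with rfl | rfl | rfl | rfl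
      · exact xh_zero_eq (phi hq hK) true t ▸ Orbits.xh_mem _ _ _ _ (tw 0 t fun _ => ht)
      · exact xh_zero_eq (phi hq hK) false t ▸ Orbits.xh_mem _ _ _ _ (tw 0 t fun _ => ht)
      · exact xh_one_eq (phi hq hK) true t ▸ Orbits.xh_mem _ _ _ _ (tw 1 t fun _ => ht)
      · exact xh_one_eq (phi hq hK) false t ▸ Orbits.xh_mem _ _ _ _ (tw 1 t fun _ => ht)
    · rw [show g = sys.wU [(rs.1, t), (rs.2, t ^ q)] from
        Units.ext (hg.trans (sys.coe_wU _).symm), ← phi_apply hq hK t]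
      simp only [List.mem_cons, List.not_mem_nil, or_false] at hrs
      rcases hrs with rfl | rfl | rfl | rfl
      · exact xh_three_eq (phi hq hK) true t ▸
          Orbits.xh_mem _ _ _ _ (tw 3 t fun h => absurd h (by decide : ¬ (2 = 1)))
      · exact xh_three_eq (phi hq hK) false t ▸
          Orbits.xh_mem _ _ _ _ (tw 3 t fun h => absurd h (by decide : ¬ (2 = 1)))
      · exact xh_two_eq (phi hq hK) true t ▸
          Orbits.xh_mem _ _ _ _ (tw 2 t fun h => absurd h (by decide : ¬ (2 = 1)))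
      · exact xh_two_eq (phi hq hK) false t ▸
          Orbits.xh_mem _ _ _ _ (tw 2 t fun h => absurd h (by decide : ¬ (2 = 1)))
  · rintro g ⟨j, s, c, hc, rfl⟩
    obtain ⟨c0, hc0, hfix⟩ : ∃ c0, c = (fun i : Fin ((orbits.{u}).size j) => (phi hq hK)^[(i : ℕ)] c0) ∧
        (phi hq hK)^[(orbits.{u}).size j] c0 = c0 :=
      ⟨c ⟨0, (orbits.{u}).size_pos j⟩, funext fun i => (Orbits.iterate_tw c hc _ i).1,
        (Orbits.iterate_tw c hc _ ⟨0, (orbits.{u}).size_pos j⟩).2⟩
    subst hc0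
    obtain rfl | rfl | rfl | rfl : j = 0 ∨ j = 1 ∨ j = 2 ∨ j = 3 := by fin_cases j <;> simp
    · have h : (phi hq hK)^[1] c0 = c0 := hfix
      rw [iterate_frob (phi_apply hq hK), pow_one] at h
      refine Subgroup.subset_closure ⟨[(if s then e6p2 else e6m2, c0)], Or.inl
        ⟨c0, h, if s then e6p2 else e6m2, ?_, rfl⟩, ?_⟩
      · cases s <;> simp
      · exact (congrArg Units.val (xh_zero_eq (phi hq hK) s c0)).trans (sys.coe_wU _)
    · have h : (phi hq hK)^[1] c0 = c0 := hfix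
      rw [iterate_frob (phi_apply hq hK), pow_one] at h
      refine Subgroup.subset_closure ⟨[(if s then e6p4 else e6m4, c0)], Or.inl
        ⟨c0, h, if s then e6p4 else e6m4, ?_, rfl⟩, ?_⟩
      · cases s <;> simp
      · exact (congrArg Units.val (xh_one_eq (phi hq hK) s c0)).trans (sys.coe_wU _)
    · refine Subgroup.subset_closure ⟨[(if s then e6p3 else e6m3, c0),
        (if s then e6p5 else e6m5, c0 ^ q)], Or.inr
        ⟨c0, if s then (e6p3, e6p5) else (e6m3, e6m5), ?_, ?_⟩, ?_⟩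
      · cases s <;> simp
      · cases s <;> rfl
      · refine (congrArg Units.val (xh_two_eq (phi hq hK) s c0)).trans ((sys.coe_wU _).trans ?_)
        rw [phi_apply hq hK]
    · refine Subgroup.subset_closure ⟨[(if s then e6p1 else e6m1, c0),
        (if s then e6p6 else e6m6, c0 ^ q)], Or.inr
        ⟨c0, if s then (e6p1, e6p6) else (e6m1, e6m6), ?_, ?_⟩, ?_⟩
      · cases s <;> simp
      · cases s <;> rfl
      · refine (congrArg Units.val (xh_three_eq (phi hq hK) s c0)).trans ((sys.coe_wU _).trans ?_)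
        rw [phi_apply hq hK]

/-- The data of ²E₆(q). -/
noncomputable def gdata : GData (orbits.{u}).toW K :=
  (orbits.{u}).toG (phi hq hK) q (hcard hq hK) (twistedE6 K q) (twisted_eq hq hK)

theorem faithful : (gdata hq hK).Faithful :=
  Orbits.faithful _ _ _ _ _ _

include hq hK in
theorem perfect : commutator (twistedE6 K q) = ⊤ := by
  have h2 : ∃ t : Kˣ, (t : K) * t ≠ 1 := by
    classical
    by_contra hc'
    push Not at hc'
    have hsub : (Finset.univ : Finset K) ⊆ {0, 1, -1} := fun x _ => by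
      by_cases hx : x = 0
      · simp [hx]
      · rcases mul_self_eq_one_iff.1 (hc' (Units.mk0 x hx)) with h | h <;> simp_all
    have h4 : 2 ^ 2 ≤ Fintype.card K := hK ▸ Nat.pow_le_pow_left hq.two_le 2
    have := (Finset.card_le_card hsub).trans Finset.card_le_three
    rw [Finset.card_univ] at this
    omega
  obtain ⟨t, ht⟩ := h2
  refine (orbits.{u}).perfect (phi hq hK) q (hcard hq hK) _ (twisted_eq hq hK) fun j c hc => ?_
  fin_cases j
  rotate_left 2
  iterate 2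
    refine Orbits.xh_mem_commutator _ _ _
      (u := fun i => (Units.map (phi hq hK : K →* K))^[(i : ℕ)] t) ?_ ?_ hc
    · intro i
      refine Orbits.tw_of_iterate ?_ i
      show (Units.map (phi hq hK : K →* K))^[2] t = t
      rw [iterate_frob_units (phi_apply hq hK)]
      exact Units.ext (by push_cast; rw [← hK, FiniteField.pow_card])
    · intro i
      rw [iterate_frob_units (phi_apply hq hK), Units.val_pow_eq_pow_val,
        ← iterate_frob (phi_apply hq hK), ← iterate_map_mul]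
      intro h
      exact ht ((phi hq hK).injective.iterate _ (h.trans (iterate_map_one _ _).symm))
  · refine Orbits.single_mem_commutator _ _ q (hcard hq hK) 0 ⟨0, Nat.one_pos⟩ ?_
      (r := ⟨46, by decide +kernel⟩) (s := ⟨39, by decide +kernel⟩) (v := ⟨47, by decide +kernel⟩)
      (M := (chevE6.commTerms 46 39).headI.2.1) ?_ ?_ ?_ ?_ ?_ ?_ [1] ?_ hc
    · exact fun a => Fin.ext (by have : (a : ℕ) < 1 := a.2; simp only; omega)
    · unfold Sys.Pos; decide +kernel
    · unfold Sys.Pos; decide +kernel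
    · unfold Sys.Pos; decide +kernel
    · decide +kernel
    · decide +kernel
    · decide +kernel
    · decide +kernel
  · refine Orbits.single_mem_commutator _ _ q (hcard hq hK) 1 ⟨0, Nat.one_pos⟩ ?_
      (r := ⟨46, by decide +kernel⟩) (s := ⟨39, by decide +kernel⟩) (v := ⟨47, by decide +kernel⟩)
      (M := (chevE6.commTerms 46 39).headI.2.1) ?_ ?_ ?_ ?_ ?_ ?_ [0] ?_ hc
    · exact fun a => Fin.ext (by have : (a : ℕ) < 1 := a.2; simp only; omega)
    · unfold Sys.Pos; decide +kernel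
    · unfold Sys.Pos; decide +kernel
    · unfold Sys.Pos; decide +kernel
    · decide +kernel
    · decide +kernel
    · decide +kernel
    · decide +kernel

include hq hK in
/-- `|U¹| = q ^ 36`. -/
theorem card_U1 : Nat.card ↥(chevE6.posUnipotent K ⊓ twistedE6 K q) = q ^ 36 := by
  refine ((congrArg (fun A : Subgroup (GL chevE6.Idx K) => Nat.card A)
    (gdata hq hK).pos_inf_G1).trans (gdata hq hK).card_U1).trans ?_
  rfl

omit [Fintype K] in
theorem theta_eq_one_iff (c : Fin chevE6.rank → Kˣ) :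
    sys.theta c = 1 ↔ ∀ i : Fin 6, ∏ j : Fin 6, (c j) ^ (cart.getD j []).getD i 0 = 1 := by
  have e : ∀ i : Fin 6, torHom chevE6 c i = ∏ j : Fin 6, (c j) ^ (cart.getD j []).getD i 0 :=
    fun i => by
      show ∏ j : Fin chevE6.rank, c j ^ chevE6.cartan (j : ℕ) (chevE6.simple i) = _
      exact Finset.prod_congr rfl fun j _ => congrArg (c j ^ ·) (cartanOK j j.2 i i.2)
  constructor
  · intro h i
    rw [← e i]
    exact sys.dg_inj (z' := (1 : ℕ → Kˣ)) (h.trans (map_one sys.dgHom).symm) i.2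
  · intro h
    refine (sys.dg_congr (z := torHom chevE6 c) (z' := (1 : ℕ → Kˣ)) fun i hi => ?_).trans
      (map_one sys.dgHom)
    exact (e ⟨i, hi⟩).trans (h _)

omit [Fintype K] in
theorem comb_eq_one {d : Fin 6 → Kˣ} {C : Fin 6 → Fin 6 → ℤ}
    (h : ∀ i, ∏ j, d j ^ C j i = 1) (k : Fin 6 → ℤ) : ∏ j, d j ^ (∑ i, C j i * k i) = 1 := by
  have e : ∀ j : Fin 6, d j ^ (∑ i, C j i * k i) = ∏ i, (d j ^ C j i) ^ k i := fun j => by
    simp only [Fin.sum_univ_six, Fin.prod_univ_six, _root_.zpow_add, _root_.zpow_mul]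
  rw [Finset.prod_congr rfl fun j _ => e j, Finset.prod_comm]
  refine Finset.prod_eq_one fun i _ => ?_
  rw [Finset.prod_zpow, h i, _root_.one_zpow]

/-- The kernel of the torus parametrisation on the fixed cocharacters. -/
theorem card_ker :
    Nat.card ((sys.theta (F := K)).ker ⊓ Orbits.tfix (G := graph) (phi hq hK) :
      Subgroup (Fin chevE6.rank → Kˣ)) = Nat.gcd 3 (q + 1) := by
  have hg : Nat.gcd 3 (q + 1) ∣ Nat.card Kˣ := by
    rw [Nat.card_units, natCard hK]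
    refine (Nat.gcd_dvd_right 3 (q + 1)).trans ?_
    rw [show q ^ 2 - 1 = (q + 1) * (q - 1) by rw [← Nat.sq_sub_sq, one_pow]]
    exact dvd_mul_right _ _
  have hmem : ∀ d : Fin 6 → Kˣ,
      (d ∈ ((sys.theta (F := K)).ker ⊓ Orbits.tfix (G := graph) (phi hq hK) :
        Subgroup (Fin chevE6.rank → Kˣ))) ↔
      (∀ i : Fin 6, ∏ j : Fin 6, (d j) ^ (cart.getD j []).getD i 0 = 1) ∧
      d 5 = d 0 ^ q ∧ d 0 = d 5 ^ q ∧ d 1 = d 1 ^ q ∧ d 4 = d 2 ^ q ∧ d 2 = d 4 ^ q ∧
        d 3 = d 3 ^ q := fun d => by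
    refine and_congr (theta_eq_one_iff d) ?_
    have hm : ∀ x : Kˣ, Units.map (phi hq hK : K →* K) x = x ^ q := fun x =>
      Units.ext ((phi_apply hq hK x).trans (Units.val_pow_eq_pow_val _ _).symm)
    constructor
    · intro h
      have h' : ∀ i : Fin 6, d (graph.tauP i : Fin chevE6.rank) = d i ^ q :=
        fun i => (h i).trans (hm _)
      exact ⟨h' 0, h' 5, h' 1, h' 2, h' 4, h' 3⟩
    · rintro ⟨a, b, c, e, f, g⟩ i
      refine Eq.trans ?_ (hm _).symm
      fin_cases i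
      exacts [a, c, e, g, f, b]
  rw [← Nat.gcd_eq_right hg, ← IsCyclic.card_powMonoidHom_ker (G := Kˣ) (Nat.gcd 3 (q + 1))]
  refine Nat.card_congr
    { toFun := fun d => ⟨d.1 (0 : Fin 6), ?_⟩
      invFun := fun x => ⟨(![x.1, 1, x.1 ^ 2, 1, x.1, x.1 ^ 2] : Fin 6 → Kˣ), (hmem _).2 ?_⟩
      left_inv := fun d => Subtype.ext ?_
      right_inv := fun x => Subtype.ext rfl }
  · obtain ⟨d, hd'⟩ := d
    change Fin 6 → Kˣ at d
    obtain ⟨hd, h50, -, -, -, -, -⟩ := (hmem d).1 hd'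
    change ∀ i, ∏ j, d j ^ _ = 1 at hd
    change d 5 = d 0 ^ q at h50
    show d 0 ∈ _
    have h3 := comb_eq_one hd ![4, 3, 5, 6, 4, 2]
    have h5 := comb_eq_one hd ![-2, -1, -2, -2, -1, 0]
    simp [cart, Fin.sum_univ_six, Fin.prod_univ_six] at h3 h5
    have h3' : d 0 ^ 3 = 1 := h3
    have h5' : d 5 = d 0 ^ 2 := inv_mul_eq_one.1 h5 |>.symm
    rw [MonoidHom.mem_ker, powMonoidHom_apply]
    refine pow_gcd_eq_one.2 ⟨h3', ?_⟩
    rw [pow_succ, ← h50, h5', ← pow_succ, h3']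
  · have hx : x.1 ^ Nat.gcd 3 (q + 1) = 1 := x.2
    generalize x.1 = y at hx
    have h3 : y ^ 3 = 1 := orderOf_dvd_iff_pow_eq_one.1
      ((orderOf_dvd_iff_pow_eq_one.2 hx).trans (Nat.gcd_dvd_left _ _))
    have hq1 : y ^ (q + 1) = 1 := orderOf_dvd_iff_pow_eq_one.1
      ((orderOf_dvd_iff_pow_eq_one.2 hx).trans (Nat.gcd_dvd_right _ _))
    have hyq : y ^ q = y ^ 2 :=
      mul_right_cancel (b := y) (by rw [← pow_succ, ← pow_succ, hq1, h3])
    have hy2q : (y ^ 2) ^ q = y := by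
      rw [← pow_mul, mul_comm, pow_mul, hyq, ← pow_mul, pow_succ, h3, one_mul]
    refine ⟨fun i => ?_, ?_, ?_, ?_, ?_, ?_, ?_⟩
    · have h3i : y * y * y = 1 := by rw [← h3]; simp [pow_succ]
      have e4 : (y ^ 2) ^ 2 = y := by rw [← pow_mul, pow_succ, h3, one_mul]
      rw [Fin.prod_univ_six]
      fin_cases i <;> simp [cart, e4]
      rw [← _root_.mul_inv_rev, inv_eq_one, ← pow_succ', h3]
    · exact hyq.symm
    · exact hy2q.symm
    · exact (one_pow q).symm
    · exact hy2q.symm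
    · exact hyq.symm
    · exact (one_pow q).symm
  · obtain ⟨d, hd'⟩ := d
    change Fin 6 → Kˣ at d
    obtain ⟨hd, -, -, -, -, -, -⟩ := (hmem d).1 hd'
    change ∀ i, ∏ j, d j ^ _ = 1 at hd
    show (![d 0, 1, d 0 ^ 2, 1, d 0, d 0 ^ 2] : Fin 6 → Kˣ) = d
    have e1 := comb_eq_one hd ![1, 2, 2, 3, 2, 1]
    have e2 := comb_eq_one hd ![-1, 0, 0, 0, 0, 0]
    have e3 := comb_eq_one hd ![2, 3, 4, 6, 4, 2]
    have e4 := comb_eq_one hd ![0, 1, 1, 2, 2, 1]
    have e5 := comb_eq_one hd ![-2, -1, -2, -2, -1, 0]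
    simp [cart, Fin.sum_univ_six, Fin.prod_univ_six] at e1 e2 e3 e4 e5
    funext i
    fin_cases i
    · rfl
    · exact e1.symm
    · exact (mul_inv_eq_one.1 e2).symm
    · exact e3.symm
    · exact inv_mul_eq_one.1 e4
    · exact inv_mul_eq_one.1 e5

/-- `(3, q + 1) |H¹| = (q - 1)² (q² - 1)²`. -/
theorem card_H1 : Nat.gcd 3 (q + 1) * Nat.card (gdata hq hK).H1 =
    (q - 1) ^ 2 * (q ^ 2 - 1) ^ 2 := by
  rw [← card_ker hq hK, mul_comm]
  refine (card_map_mul_ker (Orbits.tfix (G := graph) (phi hq hK)) (sys.theta (F := K))).trans ?_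
  rw [(orbits.{u}).card_tfix (phi hq hK), Fin.prod_univ_four]
  simp only [card_fix_units_pow (phi_apply hq hK) hq.pos (natCard hK) (size_dvd _)]
  show (q ^ 1 - 1) * (q ^ 1 - 1) * (q ^ 2 - 1) * (q ^ 2 - 1) = _
  rw [pow_one]
  ring

include hq hK in
/-- `|²E₆(q)|`. -/
theorem card_group : Nat.gcd 3 (q + 1) * Nat.card (twistedE6 K q) =
    q ^ 36 * (q ^ 2 - 1) * (q ^ 5 + 1) * (q ^ 6 - 1) * (q ^ 8 - 1) * (q ^ 9 + 1) * (q ^ 12 - 1) := by
  refine (congrArg (Nat.gcd 3 (q + 1) * ·) ((gdata hq hK).card_G1)).trans ?_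
  rw [(gdata hq hK).card_U1, ← mul_assoc, ← mul_assoc, card_H1]
  show (q - 1) ^ 2 * (q ^ 2 - 1) ^ 2 * q ^ (72 / 2 / 1) * ∑ w ∈ (orbits.{u}).toW.goodSet,
    q ^ (orbits.{u}).toW.tlen w = _
  have hp := poincare.{u} (q : ℤ)
  have h1 := hq.one_lt.le
  have h2 : 1 ≤ q ^ 2 := Nat.one_le_pow _ _ hq.pos
  have h6 : 1 ≤ q ^ 6 := Nat.one_le_pow _ _ hq.pos
  have h8 : 1 ≤ q ^ 8 := Nat.one_le_pow _ _ hq.pos
  have h12 : 1 ≤ q ^ 12 := Nat.one_le_pow _ _ hq.pos
  zify [h1, h2, h6, h8, h12]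
  rw [hp]
  ring

theorem orders (a b : Fin 4) :
    orderOf ((orbits.{u}).toW.wJ a * (orbits.{u}).toW.wJ b) = CoxeterMatrix.F₄ a b := by
  fin_cases a <;> fin_cases b <;>
    first
      | (show orderOf _ = 1; rw [orderOf_eq_one_iff]; exact (orbits.{u}).toW.wJ_wJ _)
      | (show orderOf _ = 2; rw [orderOf_eq_iff (by norm_num)]; decide +kernel)
      | (show orderOf _ = 3; rw [orderOf_eq_iff (by norm_num)]; decide +kernel)
      | (show orderOf _ = 4; rw [orderOf_eq_iff (by norm_num)]; decide +kernel)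

theorem irreducible : ∀ J : Finset (Fin 4), J.Nonempty → (∃ k, k ∉ J) →
    ∃ j ∈ J, ∃ k, k ∉ J ∧
      (orbits.{u}).toW.wJ j * (orbits.{u}).toW.wJ k ≠ (orbits.{u}).toW.wJ k * (orbits.{u}).toW.wJ j := by
  decide +kernel

include hq hK in
/-- ²E₆(q) is simple. -/
theorem simple_group :
    IsSimpleGroup (twistedE6 K q) ∧ ¬ IsMulCommutative (twistedE6 K q) :=
  (gdata hq hK).isSimpleGroup (faithful hq hK) (perfect hq hK) irreducible (by norm_num)

end

end E6

end CfsgLib.Chev.Twisted
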